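import Cfsg.Agent.H74.Base
import Cfsg.Agent.LieClassical.SLGen
set_option linter.all false

/-!
Transvections of `SL_n(F)` on `F^n`: `T v f h : x ↦ x + f x • v` for `f v = 0`.
-/

set_option autoImplicit false
set_option linter.unusedSectionVars false

namespace Cfsg.Agent.H74.Psl

open Matrix Module

variable {F : Type*} [Field F] {n : ℕ}

local notation "𝕍" => Fin n → F
local notation "𝕊" => Matrix.SpecialLinearGroup (Fin n) F

/-- the transvection `x ↦ x + f x • v` -/
def T (v : 𝕍) (f : Dual F 𝕍) (h : f v = 0) : 𝕊 :=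
  ⟨LinearMap.toMatrix' (LinearMap.transvection f v), by
    rw [LinearMap.det_toMatrix', LinearMap.transvection.det, h, add_zero]⟩

@[simp] theorem T_smul (v : 𝕍) (f : Dual F 𝕍) (h : f v = 0) (x : 𝕍) :
    T v f h • x = x + f x • v := by
  change (LinearMap.toMatrix' (LinearMap.transvection f v)) *ᵥ x = _
  rw [← Matrix.toLin'_apply, Matrix.toLin'_toMatrix', LinearMap.transvection.apply]

theorem smul_ext {A B : 𝕊} (h : ∀ v : 𝕍, A • v = B • v) : A = B :=
  LieClassical.SLGen.smul_ext h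

theorem T_mul_same (v : 𝕍) (f f' : Dual F 𝕍) (h : f v = 0) (h' : f' v = 0) :
    T v f h * T v f' h' = T v (f + f') (by rw [LinearMap.add_apply, h, h', add_zero]) := by
  apply smul_ext
  intro x
  rw [mul_smul, T_smul, T_smul, T_smul, map_add, map_smul, h, smul_zero, add_zero,
    LinearMap.add_apply, add_smul]
  abel

theorem T_mul_left (v v' : 𝕍) (f : Dual F 𝕍) (h : f v = 0) (h' : f v' = 0) :
    T v f h * T v' f h' = T (v + v') f (by rw [map_add, h, h', add_zero]) := by
  apply smul_ext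
  intro x
  rw [mul_smul, T_smul, T_smul, T_smul, map_add, map_smul, h', smul_zero, add_zero, smul_add]
  abel

theorem T_zero (v : 𝕍) : T v (0 : Dual F 𝕍) (LinearMap.zero_apply v) = 1 := by
  apply smul_ext
  intro x
  simp

theorem T_inv (v : 𝕍) (f : Dual F 𝕍) (h : f v = 0) :
    (T v f h)⁻¹ = T v (-f) (by rw [LinearMap.neg_apply, h, neg_zero]) := by
  rw [inv_eq_iff_mul_eq_one, T_mul_same]
  apply smul_ext
  intro x
  simp

theorem T_eq_one {v : 𝕍} {f : Dual F 𝕍} (h : f v = 0) (h1 : T v f h = 1) : v = 0 ∨ f = 0 := by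
  by_cases hf : f = 0
  · exact Or.inr hf
  · left
    obtain ⟨x, hx⟩ : ∃ x, f x ≠ 0 := by
      by_contra! hc
      exact hf (LinearMap.ext hc)
    have := congrArg (fun g : 𝕊 => g • x) h1
    simp only [T_smul, one_smul] at this
    have h2 : f x • v = 0 := by simpa using this
    exact (smul_eq_zero.1 h2).resolve_left hx

theorem T_injective {v : 𝕍} (hv : v ≠ 0) {f f' : Dual F 𝕍} (h : f v = 0) (h' : f' v = 0)
    (he : T v f h = T v f' h') : f = f' := by
  apply LinearMap.ext
  intro x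
  have := congrArg (fun g : 𝕊 => g • x) he
  simp only [T_smul, add_right_inj] at this
  exact smul_left_injective F hv this

/-- the functional `f ∘ g⁻¹` -/
def co (g : 𝕊) (f : Dual F 𝕍) : Dual F 𝕍 :=
  f.comp (DistribSMul.toLinearMap F (Fin n → F) g⁻¹)

@[simp] theorem co_apply (g : 𝕊) (f : Dual F 𝕍) (x : 𝕍) : co g f x = f (g⁻¹ • x) := rfl

theorem co_self (g : 𝕊) (f : Dual F 𝕍) (v : 𝕍) : co g f (g • v) = f v := by
  rw [co_apply, inv_smul_smul]

theorem T_conj (g : 𝕊) (v : 𝕍) (f : Dual F 𝕍) (h : f v = 0) :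
    g * T v f h * g⁻¹ = T (g • v) (co g f) (by rw [co_self, h]) := by
  apply smul_ext
  intro x
  rw [mul_smul, mul_smul, T_smul, T_smul, smul_add, smul_inv_smul, smul_comm, co_apply]

theorem T_congr {v v' : 𝕍} {f f' : Dual F 𝕍} (h : f v = 0) (hv : v = v') (hf : f = f') :
    T v f h = T v' f' (by rw [← hv, ← hf, h]) := by
  subst hv; subst hf; rfl

/-- separation of a vector from a subspace -/
theorem sep {W : Submodule F 𝕍} {x : 𝕍} (hx : x ∉ W) :
    ∃ f : Dual F 𝕍, (∀ w ∈ W, f w = 0) ∧ f x = 1 := by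
  obtain ⟨f, h1, h2⟩ := Submodule.exists_le_ker_of_notMem hx
  refine ⟨(f x)⁻¹ • f, fun w hw => ?_, ?_⟩
  · rw [LinearMap.smul_apply, h2 hw, smul_zero]
  · rw [LinearMap.smul_apply, smul_eq_mul, inv_mul_cancel₀ h1]

theorem mem_span_pair' {x y z : 𝕍} : z ∈ Submodule.span F ({x, y} : Set 𝕍) ↔
    ∃ a b : F, a • x + b • y = z := Submodule.mem_span_pair

theorem exch {v a b : 𝕍} (ha : a ∉ Submodule.span F ({v} : Set 𝕍))
    (hb : b ∉ Submodule.span F ({v, a} : Set 𝕍)) : a ∉ Submodule.span F ({v, b} : Set 𝕍) := by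
  rw [mem_span_pair']
  rintro ⟨s, t, he⟩
  by_cases ht : t = 0
  · apply ha
    rw [Submodule.mem_span_singleton]
    exact ⟨s, by rw [← he, ht, zero_smul, add_zero]⟩
  · apply hb
    rw [mem_span_pair']
    refine ⟨-(t⁻¹ * s), t⁻¹, ?_⟩
    rw [← he, smul_add, smul_smul, smul_smul, inv_mul_cancel₀ ht, one_smul, ← add_assoc,
      ← add_smul, neg_add_cancel, zero_smul, zero_add]

theorem not_mem_single {v a b : 𝕍} (hb : b ∉ Submodule.span F ({v, a} : Set 𝕍)) :
    b ∉ Submodule.span F ({v} : Set 𝕍) := fun h =>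
  hb (Submodule.span_mono (by simp) h)

theorem not_mem_single' {v a b : 𝕍} (hb : b ∉ Submodule.span F ({v, a} : Set 𝕍)) :
    b ∉ Submodule.span F ({a} : Set 𝕍) := fun h =>
  hb (Submodule.span_mono (by simp) h)

theorem swap_single {v a : 𝕍} (hv : v ≠ 0) (ha : a ∉ Submodule.span F ({v} : Set 𝕍)) :
    v ∉ Submodule.span F ({a} : Set 𝕍) := by
  rw [Submodule.mem_span_singleton]
  rintro ⟨c, rfl⟩
  apply ha
  rw [Submodule.mem_span_singleton]
  have hc : c ≠ 0 := by
    rintro rfl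
    exact hv (zero_smul F a)
  exact ⟨c⁻¹, by rw [smul_smul, inv_mul_cancel₀ hc, one_smul]⟩

theorem finrank_span_pair_le (x y : 𝕍) :
    finrank F (Submodule.span F ({x, y} : Set 𝕍)) ≤ 2 := by
  classical
  have := finrank_span_finset_le_card (R := F) (M := 𝕍) ({x, y} : Finset 𝕍)
  have h2 := Finset.card_le_two (a := x) (b := y)
  simp only [Finset.coe_insert, Finset.coe_singleton] at this
  exact this.trans h2

theorem finrank_span_triple_le (x y z : 𝕍) :
    finrank F (Submodule.span F ({x, y, z} : Set 𝕍)) ≤ 3 := by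
  classical
  have := finrank_span_finset_le_card (R := F) (M := 𝕍) ({x, y, z} : Finset 𝕍)
  have h2 := Finset.card_le_three (a := x) (b := y) (c := z)
  simp only [Finset.coe_insert, Finset.coe_singleton] at this
  exact this.trans h2

theorem exists_notMem_of_finrank_lt {W W' : Submodule F 𝕍} (h : finrank F W < finrank F W') :
    ∃ x ∈ W', x ∉ W := by
  by_contra! hc
  exact absurd (Submodule.finrank_mono hc) (not_le.2 h)

theorem exists_notMem_pair (hn : 3 ≤ n) (x y : 𝕍) :
    ∃ z : 𝕍, z ∉ Submodule.span F ({x, y} : Set 𝕍) := by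
  obtain ⟨z, -, hz⟩ := exists_notMem_of_finrank_lt (F := F) (n := n)
    (W := Submodule.span F ({x, y} : Set 𝕍)) (W' := ⊤) (by
      have := finrank_span_pair_le (F := F) x y
      rw [finrank_top, finrank_fin_fun]; omega)
  exact ⟨z, hz⟩

/-- transitivity of the stabiliser of `v` on the vectors outside `⟨v⟩` -/
theorem trans_aux {v d e : 𝕍} (hd : d ∉ Submodule.span F ({v} : Set 𝕍))
    (he : e ∉ Submodule.span F ({v, d} : Set 𝕍)) :
    ∃ g : 𝕊, g • v = v ∧ g • d = e := by
  obtain ⟨f1, h1, h1'⟩ := sep (exch hd he)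
  obtain ⟨f2, h2, h2'⟩ := sep he
  have a1 := h1 v (Submodule.subset_span (by simp))
  have a2 := h1 e (Submodule.subset_span (by simp))
  have b1 := h2 v (Submodule.subset_span (by simp))
  have b2 := h2 d (Submodule.subset_span (by simp))
  refine ⟨T (e - d) (f1 + f2) ?_, ?_, ?_⟩
  · simp [a2, b2, h1', h2']
  · simp [a1, b1]
  · simp [h1', b2]

theorem trans_stab (hn : 3 ≤ n) {v d e : 𝕍} (hd : d ∉ Submodule.span F ({v} : Set 𝕍))
    (he : e ∉ Submodule.span F ({v} : Set 𝕍)) :
    ∃ g : 𝕊, g • v = v ∧ g • d = e := by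
  by_cases h : e ∈ Submodule.span F ({v, d} : Set 𝕍)
  · obtain ⟨z, hz⟩ := exists_notMem_pair hn v d
    have hz' : z ∉ Submodule.span F ({v, e} : Set 𝕍) := by
      intro hc
      apply hz
      refine (Submodule.span_le.2 ?_) hc
      rintro x (rfl | rfl)
      · exact Submodule.subset_span (by simp)
      · exact h
    obtain ⟨g1, h1, h1'⟩ := trans_aux hd hz
    obtain ⟨g2, h2, h2'⟩ := trans_aux (not_mem_single hz) (exch he hz')
    exact ⟨g2 * g1, by rw [mul_smul, h1, h2], by rw [mul_smul, h1', h2']⟩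
  · exact trans_aux hd h

theorem trans_vec (hn : 3 ≤ n) {v w : 𝕍} (hv : v ≠ 0) (hw : w ≠ 0) : ∃ g : 𝕊, g • v = w := by
  obtain ⟨z, hz⟩ := exists_notMem_pair hn v w
  have hvz := swap_single (F := F) hv (not_mem_single hz)
  have hwz := swap_single (F := F) hw (not_mem_single' hz)
  obtain ⟨g, -, h⟩ := trans_stab hn hvz hwz
  exact ⟨g, h⟩

end Cfsg.Agent.H74.Psl
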